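import Mathlib
import Groth.Prelude.Def_HensSch

/-!
# Sections of locally ringed spaces, vanishing ideals and Henselian pairs
-/

set_option autoImplicit false

universe u

open CategoryTheory Opposite TopologicalSpace Topology AlgebraicGeometry IsLocalRing

namespace HensSchLib

section Rings

variable {C : Type u} [CommRing C]

theorem isUnit_of_isUnit_mk {J : Ideal C} (hJ : J ≤ (⊥ : Ideal C).jacobson) {x : C}
    (h : IsUnit (Ideal.Quotient.mk J x)) : IsUnit x := by
  obtain ⟨t, ht⟩ := Ideal.Quotient.mk_surjective (↑h.unit⁻¹ : C ⧸ J)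
  have h1 : x * t - 1 ∈ J := by
    rw [← Ideal.Quotient.eq, map_mul, map_one, ht, IsUnit.mul_val_inv]
  have h2 := Ideal.mem_jacobson_bot.mp (hJ h1) 1
  rw [mul_one, sub_add_cancel] at h2
  exact isUnit_of_mul_isUnit_left h2

theorem isUnit_add_of_mem_jacobson {u' y : C} (hu : IsUnit u') (hy : y ∈ (⊥ : Ideal C).jacobson) :
    IsUnit (u' + y) := by
  obtain ⟨v, rfl⟩ := hu
  have h := (Ideal.mem_jacobson_bot.mp hy ↑v⁻¹).mul v.isUnit
  rwa [add_mul, mul_assoc, Units.inv_mul, mul_one, one_mul, add_comm] at h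

/-- A root of a polynomial congruent to a simple root differs from it by a multiple of the value. -/
theorem sub_mem_of_root {I J : Ideal C} (hI : I ≤ (⊥ : Ideal C).jacobson) {p : Polynomial C} {a a₀ : C}
    (ha : p.IsRoot a) (hsub : a - a₀ ∈ I) (hd : IsUnit (p.derivative.eval a₀))
    (h₀ : p.eval a₀ ∈ J) : a - a₀ ∈ J := by
  obtain ⟨k, hk⟩ := Polynomial.binomExpansion p a₀ (a - a₀)
  rw [add_sub_cancel, ha.eq_zero] at hk
  have hu : IsUnit (p.derivative.eval a₀ + k * (a - a₀)) :=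
    isUnit_add_of_mem_jacobson hd (Ideal.mul_mem_left _ k (hI hsub))
  refine (J.unit_mul_mem_iff_mem hu).mp ?_
  have : (p.derivative.eval a₀ + k * (a - a₀)) * (a - a₀) = -p.eval a₀ := by linear_combination -hk
  rw [this]
  exact neg_mem h₀

/-- Congruent roots are equal when one is simple. -/
theorem eq_of_root {I : Ideal C} (hI : I ≤ (⊥ : Ideal C).jacobson) {p : Polynomial C} {a b : C}
    (ha : p.IsRoot a) (hb : p.IsRoot b) (hsub : a - b ∈ I) (hd : IsUnit (p.derivative.eval b)) : a = b :=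
  sub_eq_zero.mp ((Ideal.mem_bot (R := C)).mp (sub_mem_of_root hI ha hsub hd (by
    rw [hb.eq_zero]; exact zero_mem _)))

theorem radical_le_jacobson {I : Ideal C} (hI : I ≤ (⊥ : Ideal C).jacobson) :
    I.radical ≤ (⊥ : Ideal C).jacobson := fun x ⟨n, hn⟩ ↦ by
  rw [Ideal.jacobson, Ideal.mem_sInf]
  rintro M ⟨-, hM⟩
  exact hM.isPrime.mem_of_pow_mem n ((Ideal.mem_sInf.mp (show x ^ n ∈ sInf _ from hI hn)) ⟨bot_le, hM⟩)

/-- A pair below the radical of a Henselian pair is Henselian. -/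
theorem henselianRing_of_le_radical {I J : Ideal C} (h : HenselianRing C I) (hJ : J ≤ I.radical) :
    HenselianRing C J := by
  have hjac := hJ.trans (radical_le_jacobson h.jac)
  refine ⟨hjac, fun p hp a₀ h₀ hd ↦ ?_⟩
  have hu : IsUnit (p.derivative.eval a₀) := isUnit_of_isUnit_mk hjac hd
  obtain ⟨n, hn⟩ := hJ h₀
  have haev : ∀ q : Polynomial C, Polynomial.aeval (Ideal.Quotient.mk I a₀) q = Ideal.Quotient.mk I (q.eval a₀) :=
    fun q ↦ by
      rw [← Ideal.Quotient.algebraMap_eq, Polynomial.aeval_algebraMap_apply, Polynomial.coe_aeval_eq_eval]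
  obtain ⟨r, ⟨hr, hroot⟩, -⟩ := Polynomial.existsUnique_nilpotent_sub_and_aeval_eq_zero (P := p)
    (x := Ideal.Quotient.mk I a₀) ⟨n, by rw [haev, ← map_pow, Ideal.Quotient.eq_zero_iff_mem]; exact hn⟩
    (by rw [haev]; exact hu.map _)
  obtain ⟨b, rfl⟩ := Ideal.Quotient.mk_surjective r
  have hb : p.eval b ∈ I := by
    rw [← Ideal.Quotient.eq_zero_iff_mem, ← Polynomial.coe_aeval_eq_eval, ← Ideal.Quotient.algebraMap_eq,
      ← Polynomial.aeval_algebraMap_apply]
    exact hroot
  have hsub : b - a₀ ∈ I.radical := by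
    obtain ⟨m, hm⟩ := hr
    rw [← neg_sub, neg_mem_iff]
    exact ⟨m, by rw [← Ideal.Quotient.eq_zero_iff_mem, map_pow, map_sub]; exact hm⟩
  have hdb : IsUnit (p.derivative.eval b) := by
    have h1 : p.derivative.eval b - p.derivative.eval a₀ ∈ I.radical :=
      Ideal.mem_of_dvd _ (Polynomial.sub_dvd_eval_sub b a₀ _) hsub
    have h2 := isUnit_add_of_mem_jacobson hu (radical_le_jacobson h.jac h1)
    rwa [add_sub_cancel] at h2
  obtain ⟨a, ha, hab⟩ := h.is_henselian p hp b hb (hdb.map _)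
  refine ⟨a, ha, sub_mem_of_root (radical_le_jacobson h.jac) ha ?_ hu h₀⟩
  have := add_mem (Ideal.le_radical hab) hsub
  rwa [sub_add_sub_cancel] at this

end Rings

variable {X Y Z : LocallyRingedSpace.{u}}

/-- The map on sections between two opens compatible with a morphism. -/
noncomputable def secLE (g : X ⟶ Y) (U : Opens Y) (W : Opens X) (e : W ≤ (Opens.map g.base).obj U) :
    Y.presheaf.obj (op U) →+* X.presheaf.obj (op W) :=
  (X.presheaf.map (homOfLE e).op).hom.comp (g.c.app (op U)).hom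

theorem secLE_res_tgt (g : X ⟶ Y) (U : Opens Y) (W W' : Opens X) (e : W ≤ (Opens.map g.base).obj U)
    (h : W' ≤ W) (s : Y.presheaf.obj (op U)) :
    (X.presheaf.map (homOfLE h).op).hom (secLE g U W e s) = secLE g U W' (h.trans e) s := by
  simp only [secLE, RingHom.comp_apply]
  rw [← CommRingCat.comp_apply, ← X.presheaf.map_comp]
  rfl

theorem secLE_res_src (g : X ⟶ Y) (U U' : Opens Y) (W : Opens X) (h : U' ≤ U)
    (e : W ≤ (Opens.map g.base).obj U') (s : Y.presheaf.obj (op U)) :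
    secLE g U' W e ((Y.presheaf.map (homOfLE h).op).hom s) =
      secLE g U W (e.trans ((Opens.map g.base).map (homOfLE h)).le) s := by
  simp only [secLE, RingHom.comp_apply]
  rw [← CommRingCat.comp_apply (Y.presheaf.map _), g.c.naturality, CommRingCat.comp_apply]
  simp only [TopCat.Presheaf.pushforward_obj_map]
  rw [← CommRingCat.comp_apply, ← X.presheaf.map_comp]
  rfl

theorem secLE_comp (f : X ⟶ Y) (g : Y ⟶ Z) (U : Opens Z) (V : Opens Y) (W : Opens X)
    (e₁ : V ≤ (Opens.map g.base).obj U) (e₂ : W ≤ (Opens.map f.base).obj V) (s : Z.presheaf.obj (op U)) :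
    secLE f V W e₂ (secLE g U V e₁ s) =
      secLE (f ≫ g) U W (e₂.trans ((Opens.map f.base).map (homOfLE e₁)).le) s := by
  simp only [secLE, RingHom.comp_apply]
  rw [← CommRingCat.comp_apply (Y.presheaf.map _), f.c.naturality, CommRingCat.comp_apply]
  simp only [TopCat.Presheaf.pushforward_obj_map]
  rw [← CommRingCat.comp_apply, ← X.presheaf.map_comp]
  rfl

/-- Sections vanishing at every point. -/
noncomputable def vanish (X : LocallyRingedSpace.{u}) (U : Opens X) : Ideal (X.presheaf.obj (op U)) :=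
  ⨅ x : U, (maximalIdeal (X.presheaf.stalk x.1)).comap (X.presheaf.germ U x.1 x.2).hom

theorem mem_vanish {U : Opens X} {s : X.presheaf.obj (op U)} :
    s ∈ vanish X U ↔ ∀ (x : X) (hx : x ∈ U), ¬ IsUnit ((X.presheaf.germ U x hx).hom s) := by
  simp [vanish, Submodule.mem_iInf]

theorem germ_res (X : LocallyRingedSpace.{u}) {U W : Opens X} (h : W ≤ U) (x : X) (hx : x ∈ W)
    (s : X.presheaf.obj (op U)) :
    (X.presheaf.germ W x hx).hom ((X.presheaf.map (homOfLE h).op).hom s) =
      (X.presheaf.germ U x (h hx)).hom s :=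
  TopCat.Presheaf.germ_res_apply X.presheaf (homOfLE h) x hx s

theorem res_mem_vanish {U W : Opens X} (h : W ≤ U) {s : X.presheaf.obj (op U)} (hs : s ∈ vanish X U) :
    (X.presheaf.map (homOfLE h).op).hom s ∈ vanish X W := by
  rw [mem_vanish] at hs ⊢
  intro x hx
  rw [germ_res]
  exact hs x (h hx)

theorem germ_secLE (g : X ⟶ Y) (U : Opens Y) (W : Opens X) (e : W ≤ (Opens.map g.base).obj U) (x : X)
    (hx : x ∈ W) (s : Y.presheaf.obj (op U)) :
    (X.presheaf.germ W x hx).hom (secLE g U W e s) =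
      (g.stalkMap x).hom ((Y.presheaf.germ U (g.base x) (e hx)).hom s) := by
  simp only [secLE, RingHom.comp_apply]
  rw [germ_res]
  exact (PresheafedSpace.stalkMap_germ_apply g.toShHom.hom U x (e hx) s).symm

theorem isUnit_germ_secLE_iff (g : X ⟶ Y) (U : Opens Y) (W : Opens X) (e : W ≤ (Opens.map g.base).obj U)
    (x : X) (hx : x ∈ W) (s : Y.presheaf.obj (op U)) :
    IsUnit ((X.presheaf.germ W x hx).hom (secLE g U W e s)) ↔
      IsUnit ((Y.presheaf.germ U (g.base x) (e hx)).hom s) := by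
  rw [germ_secLE]
  exact ⟨fun h ↦ (LocallyRingedSpace.isLocalHomStalkMap g x).map_nonunit _ h, fun h ↦ h.map _⟩

theorem vanish_le_jacobson (X : LocallyRingedSpace.{u}) (U : Opens X) :
    vanish X U ≤ (⊥ : Ideal (X.presheaf.obj (op U))).jacobson := fun s hs ↦ by
  rw [Ideal.mem_jacobson_bot]
  intro t
  refine X.toRingedSpace.isUnit_of_isUnit_germ U _ fun x hx ↦ ?_
  by_contra h
  have h1 : ¬ IsUnit ((X.presheaf.germ U x hx).hom (s * t + 1)) := h
  have h2 := (mem_maximalIdeal _).mpr (mem_vanish.mp hs x hx)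
  rw [map_add, map_mul, map_one] at h1
  have h3 := Ideal.sub_mem _ ((mem_maximalIdeal _).mpr h1)
    (Ideal.mul_mem_right ((X.presheaf.germ U x hx).hom t) _ h2)
  rw [add_sub_cancel_left] at h3
  exact (maximalIdeal.isMaximal _).ne_top ((Ideal.eq_top_iff_one _).mpr h3)

/-- All sections pairs of a locally ringed space are Henselian. -/
def AllHenselian (X : LocallyRingedSpace.{u}) : Prop :=
  ∀ U : Opens X, HenselianRing (X.presheaf.obj (op U)) (vanish X U)

/-- Henselianity is local. -/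
theorem allHenselian_of_local
    (h : ∀ (U : Opens X) (x : X), x ∈ U → ∃ W : Opens X, x ∈ W ∧ W ≤ U ∧
      HenselianRing (X.presheaf.obj (op W)) (vanish X W)) : AllHenselian X := by
  intro U
  refine ⟨vanish_le_jacobson X U, fun p hp a₀ h₀ hd ↦ ?_⟩
  have hu : IsUnit (p.derivative.eval a₀) := isUnit_of_isUnit_mk (vanish_le_jacobson X U) hd
  choose W hxW hWU hW using fun x : U ↦ h U x.1 x.2
  let r (x : U) := (X.presheaf.map (homOfLE (hWU x)).op).hom
  have hloc : ∀ x : U, ∃ a, (p.map (r x)).IsRoot a ∧ a - r x a₀ ∈ vanish X (W x) := fun x ↦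
    (hW x).is_henselian _ (hp.map _) (r x a₀)
      (by rw [Polynomial.eval_map, Polynomial.eval₂_hom]; exact res_mem_vanish (hWU x) h₀)
      (by rw [Polynomial.derivative_map, Polynomial.eval_map, Polynomial.eval₂_hom]; exact (hu.map (r x)).map _)
  choose a ha hsub using hloc
  have hr : ∀ (V : Opens X) (hVU : V ≤ U) (x : U) (hVW : V ≤ W x),
      let r' := (X.presheaf.map (homOfLE hVW).op).hom
      (p.map (X.presheaf.map (homOfLE hVU).op).hom).IsRoot (r' (a x)) ∧
        r' (a x) - (X.presheaf.map (homOfLE hVU).op).hom a₀ ∈ vanish X V := by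
    intro V hVU x hVW r'
    have e : (X.presheaf.map (homOfLE hVU).op).hom = r'.comp (r x) := by
      rw [← CommRingCat.hom_comp, ← X.presheaf.map_comp]; rfl
    rw [e, ← Polynomial.map_map, RingHom.comp_apply]
    refine ⟨(ha x).map, ?_⟩
    rw [← map_sub]
    exact res_mem_vanish hVW (hsub x)
  have hcompat : TopCat.Presheaf.IsCompatible X.presheaf W a := by
    intro x y
    let V := W x ⊓ W y
    have hVU : V ≤ U := inf_le_left.trans (hWU x)
    obtain ⟨h1, h2⟩ := hr V hVU x inf_le_left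
    obtain ⟨h3, h4⟩ := hr V hVU y inf_le_right
    refine eq_of_root (vanish_le_jacobson X V) h1 h3 ?_ ?_
    · have h5 := Ideal.sub_mem _ h2 h4
      rwa [sub_sub_sub_cancel_right] at h5
    · rw [Polynomial.derivative_map, Polynomial.eval_map]
      have h6 := Ideal.mem_of_dvd _ (Polynomial.sub_dvd_eval_sub _ _
        (p.derivative.map (X.presheaf.map (homOfLE hVU).op).hom)) h4
      rw [Polynomial.eval_map, Polynomial.eval_map, Polynomial.eval₂_hom] at h6
      have h7 := isUnit_add_of_mem_jacobson (hu.map (X.presheaf.map (homOfLE hVU).op).hom)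
        (vanish_le_jacobson X V h6)
      rwa [add_sub_cancel] at h7
  obtain ⟨s, hs, -⟩ := X.sheaf.existsUnique_gluing' W U (fun x ↦ homOfLE (hWU x))
    (fun x hx ↦ Opens.mem_iSup.mpr ⟨⟨x, hx⟩, hxW ⟨x, hx⟩⟩) a hcompat
  refine ⟨s, ?_, ?_⟩
  · refine X.sheaf.eq_of_locally_eq' W U (fun x ↦ homOfLE (hWU x))
      (fun x hx ↦ Opens.mem_iSup.mpr ⟨⟨x, hx⟩, hxW ⟨x, hx⟩⟩) (p.eval s) 0 fun x ↦ ?_
    show r x (p.eval s) = r x 0
    rw [map_zero, ← Polynomial.eval₂_hom, ← Polynomial.eval_map, show r x s = a x from hs x]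
    exact ha x
  · rw [mem_vanish]
    intro x hx
    have := mem_vanish.mp (hsub ⟨x, hx⟩) x (hxW ⟨x, hx⟩)
    rwa [← show r ⟨x, hx⟩ s = a ⟨x, hx⟩ from hs ⟨x, hx⟩, ← map_sub, germ_res] at this

end HensSchLib
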