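import Mathlib
import Groth.Prelude.Def_HensSch
import Groth.Agent.HensSchLib.Basic

/-!
# Affine Henselian spectra
-/

set_option autoImplicit false

universe u

open CategoryTheory Opposite TopologicalSpace Topology AlgebraicGeometry IsLocalRing

namespace HensSchLib

section Spec

variable (A : Type u) [CommRing A]

/-- Elements of the ring as sections over an open of the spectrum. -/
noncomputable def toSec (U : Opens (PrimeSpectrum A)) : A →+* (HensSch.specLRS A).presheaf.obj (op U) :=
  algebraMap A ((Spec.structureSheaf A).obj.obj (op U))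

theorem toSec_res {U W : Opens (PrimeSpectrum A)} (h : W ≤ U) (a : A) :
    ((HensSch.specLRS A).presheaf.map (homOfLE h).op).hom (toSec A U a) = toSec A W a := by
  exact congrArg (fun q ↦ q.hom a) (StructureSheaf.algebraMap_self_map (R := A) (op W) (op U) (homOfLE h).op)

theorem toSec_top (a : A) : toSec A ⊤ a = (Scheme.ΓSpecIso (CommRingCat.of A)).inv.hom a := rfl

theorem isUnit_germ_toSec_iff (U : Opens (PrimeSpectrum A)) (p : PrimeSpectrum A) (hp : p ∈ U) (a : A) :
    IsUnit (((HensSch.specLRS A).presheaf.germ U p hp).hom (toSec A U a)) ↔ a ∉ p.asIdeal := by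
  rw [← toSec_res A (le_top : U ≤ ⊤) a]
  erw [TopCat.Presheaf.germ_res_apply]
  rw [toSec_top]
  have h := basicOpen_eq_of_affine (R := CommRingCat.of A) a
  exact ((Scheme.mem_basicOpen_top (X := Spec (CommRingCat.of A)) _ p).symm.trans
    (Iff.of_eq (congrArg (p ∈ ·) h))).trans Iff.rfl

end Spec

variable {A : Type u} [CommRing A] {X : LocallyRingedSpace.{u}} (π : X ⟶ HensSch.specLRS A)

theorem secMap_apply (U : Opens (PrimeSpectrum A)) (a : A) :
    HensSch.secMap π U a = secLE π U ((Opens.map π.base).obj U) le_rfl (toSec A U a) := by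
  rw [← toSec_res A (le_top : U ≤ ⊤) a]
  exact (secLE_res_src π ⊤ U _ le_top le_rfl (toSec A ⊤ a)).symm

theorem isUnit_germ_secMap_iff (U : Opens (PrimeSpectrum A)) (x : X)
    (hx : x ∈ (Opens.map π.base).obj U) (a : A) :
    IsUnit ((X.presheaf.germ _ x hx).hom (HensSch.secMap π U a)) ↔ a ∉ (π.base x : PrimeSpectrum A).asIdeal := by
  rw [secMap_apply, isUnit_germ_secLE_iff]
  exact isUnit_germ_toSec_iff A U (π.base x) hx a

theorem henselianRing_bot (C : Type u) [CommRing C] : HenselianRing C (⊥ : Ideal C) :=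
  ⟨bot_le, fun f _ a₀ h _ ↦ ⟨a₀, (Ideal.mem_bot (R := C)).mp h, by rw [sub_self]; exact zero_mem _⟩⟩

/-- The Henselization does not change the quotient by the ideal. -/
theorem exists_approx {I : Ideal A} {f : A} {B : Type u} [CommRing B] {φ : A →+* B}
    (h : HensSch.IsHensAway A I f B φ) (b : B) :
    ∃ (a : A) (n : ℕ), b * φ f ^ n - φ a ∈ I.map φ := by
  obtain ⟨hu, -, huniv⟩ := h
  let fbar := Ideal.Quotient.mk I f
  let C := Localization.Away fbar
  let g₀ : A →+* C := (algebraMap (A ⧸ I) C).comp (Ideal.Quotient.mk I)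
  obtain ⟨hb, hhb, -⟩ := huniv C ⊥ g₀ (henselianRing_bot C)
    (by rw [Ideal.map_le_iff_le_comap]; intro i hi; simp [g₀, Ideal.Quotient.eq_zero_iff_mem.mpr hi])
    (IsLocalization.Away.algebraMap_isUnit (S := C) fbar)
  let q₀ : A ⧸ I →+* B ⧸ I.map φ := Ideal.quotientMap _ φ Ideal.le_comap_map
  have hq₀ : IsUnit (q₀ fbar) := hu.map (Ideal.Quotient.mk _)
  let ψ : C →+* B ⧸ I.map φ := IsLocalization.Away.lift fbar hq₀
  have hψ : ∀ c, ψ (algebraMap (A ⧸ I) C c) = q₀ c := IsLocalization.Away.lift_eq fbar hq₀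
  have e : ψ.comp hb = Ideal.Quotient.mk (I.map φ) := by
    refine (huniv (B ⧸ I.map φ) ⊥ ((Ideal.Quotient.mk (I.map φ)).comp φ) (henselianRing_bot _) ?_
      (show IsUnit (Ideal.Quotient.mk (I.map φ) (φ f)) from hu.map _)).unique ?_ rfl
    · rw [← Ideal.map_map, Ideal.map_quotient_self]
    · rw [RingHom.comp_assoc, hhb]
      exact RingHom.ext fun a ↦ hψ _
  obtain ⟨⟨abar, ⟨_, n, rfl⟩⟩, hs⟩ := IsLocalization.surj (Submonoid.powers fbar) (hb b)
  obtain ⟨a, rfl⟩ := Ideal.Quotient.mk_surjective abar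
  refine ⟨a, n, ?_⟩
  rw [← Ideal.Quotient.eq, map_mul, map_pow, ← e, RingHom.comp_apply]
  have := congrArg ψ hs
  rw [map_mul, hψ, hψ, map_pow] at this
  rw [e]
  exact this

variable {π} {I : Ideal A}

/-- Elements of the ideal vanish on the spectrum. -/
theorem map_le_vanish (hπ : Set.range π.base ⊆ PrimeSpectrum.zeroLocus (I : Set A))
    (U : Opens (PrimeSpectrum A)) :
    I.map (HensSch.secMap π U) ≤ vanish X ((Opens.map π.base).obj U) := by
  rw [Ideal.map_le_iff_le_comap]
  intro i hi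
  rw [Ideal.mem_comap, mem_vanish]
  intro x hx
  rw [isUnit_germ_secMap_iff, not_not]
  exact hπ ⟨x, rfl⟩ hi

/-- Vanishing sections on a basic open of the spectrum lie in the radical of the ideal. -/
theorem vanish_le_radical (h : HensSch.IsSph A I X π) (f : A) :
    vanish X (HensSch.dOpen π f) ≤ (I.map (HensSch.secMap π (PrimeSpectrum.basicOpen f))).radical := by
  obtain ⟨-, hrange, haway⟩ := h
  let φ := HensSch.secMap π (PrimeSpectrum.basicOpen f)
  intro s hs
  rw [Ideal.radical_eq_sInf, Ideal.mem_sInf]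
  rintro q ⟨hIq, hq⟩
  obtain ⟨a, n, han⟩ := exists_approx (haway f) s
  have hfq : f ∉ q.comap φ := fun hf ↦ hq.ne_top (Ideal.eq_top_of_isUnit_mem _ hf (haway f).1)
  obtain ⟨x, hx⟩ : (⟨q.comap φ, Ideal.comap_isPrime φ q⟩ : PrimeSpectrum A) ∈ Set.range π.base := by
    rw [hrange]
    exact fun i hi ↦ hIq (Ideal.mem_map_of_mem φ hi)
  have hxD : x ∈ HensSch.dOpen π f := by
    show (π.base x : PrimeSpectrum A) ∈ PrimeSpectrum.basicOpen f
    rw [hx]; exact hfq
  have ha : a ∈ (π.base x : PrimeSpectrum A).asIdeal := by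
    by_contra hau
    have h1 := (isUnit_germ_secMap_iff π _ x hxD a).mpr hau
    have h2 : s * φ f ^ n - φ a ∈ vanish X (HensSch.dOpen π f) := map_le_vanish hrange.le _ han
    have h3 := Ideal.sub_mem _ (Ideal.mul_mem_right (φ f ^ n) _ hs) h2
    rw [sub_sub_cancel] at h3
    exact mem_vanish.mp h3 x hxD h1
  rw [hx] at ha
  have h4 : s * φ f ^ n ∈ q := by
    have := add_mem (hIq han) (show φ a ∈ q from ha)
    rwa [sub_add_cancel] at this
  exact (hq.mem_or_mem h4).resolve_right fun h5 ↦ hfq (hq.mem_of_pow_mem n h5)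

/-- Basic opens of the spectrum have Henselian sections. -/
theorem henselianRing_dOpen (h : HensSch.IsSph A I X π) (f : A) :
    HenselianRing (X.presheaf.obj (op (HensSch.dOpen π f))) (vanish X (HensSch.dOpen π f)) :=
  henselianRing_of_le_radical (h.2.2 f).2.1 (vanish_le_radical h f)

theorem exists_dOpen_le (h : HensSch.IsSph A I X π) (U : Opens X) (x : X) (hx : x ∈ U) :
    ∃ f : A, x ∈ HensSch.dOpen π f ∧ HensSch.dOpen π f ≤ U := by
  obtain ⟨V, hV, hVU⟩ := h.1.isInducing.isOpen_iff.mp U.isOpen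
  obtain ⟨_, ⟨f, rfl⟩, hxf, hfV⟩ := PrimeSpectrum.isTopologicalBasis_basic_opens.exists_subset_of_mem_open
    (show π.base x ∈ V from (Set.ext_iff.mp hVU x).mpr hx) hV
  exact ⟨f, hxf, fun y hy ↦ (Set.ext_iff.mp hVU y).mp (hfV hy)⟩

theorem henselianRing_of_ringEquiv {R S : Type u} [CommRing R] [CommRing S] (e : R ≃+* S) {I : Ideal R}
    {J : Ideal S} (hIJ : ∀ x, x ∈ I ↔ e x ∈ J) (h : HenselianRing S J) : HenselianRing R I := by
  refine ⟨fun x hx ↦ ?_, fun p hp a₀ h₀ hd ↦ ?_⟩
  · rw [Ideal.mem_jacobson_bot]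
    intro y
    have := Ideal.mem_jacobson_bot.mp (h.jac ((hIJ x).mp hx)) (e y)
    have h2 := this.map e.symm
    simpa using h2
  · have hu : IsUnit (p.derivative.eval a₀) := isUnit_of_isUnit_mk (fun x hx ↦ by
      rw [Ideal.mem_jacobson_bot]
      intro y
      have := (Ideal.mem_jacobson_bot.mp (h.jac ((hIJ x).mp hx)) (e y)).map e.symm
      simpa using this) hd
    obtain ⟨a, ha, hsub⟩ := h.is_henselian (p.map e.toRingHom) (hp.map _) (e a₀)
      (by rw [Polynomial.eval_map]; exact (Polynomial.eval₂_hom (p := p) e.toRingHom a₀).symm ▸ (hIJ _).mp h₀)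
      (by
        rw [Polynomial.derivative_map, Polynomial.eval_map]
        exact ((Polynomial.eval₂_hom (p := p.derivative) e.toRingHom a₀).symm ▸ hu.map e.toRingHom).map _)
    refine ⟨e.symm a, ?_, ?_⟩
    · refine e.injective ?_
      rw [map_zero]
      have : (p.map e.toRingHom).eval (e (e.symm a)) = 0 := by rw [e.apply_symm_apply]; exact ha
      rw [Polynomial.eval_map] at this
      exact (Polynomial.eval₂_hom (p := p) e.toRingHom _).symm.trans this
    · rw [hIJ, map_sub, e.apply_symm_apply]; exact hsub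

theorem bijective_secLE_of_isOpenImmersion {U Z : LocallyRingedSpace.{u}} (i : U ⟶ Z)
    [LocallyRingedSpace.IsOpenImmersion i] (V : Opens Z) (hV : (V : Set Z) ⊆ Set.range i.base)
    (W : Opens U) (hW : (Opens.map i.base).obj V = W) :
    Function.Bijective (secLE i V W hW.ge) := by
  subst hW
  haveI : PresheafedSpace.IsOpenImmersion i.toShHom.hom := ‹LocallyRingedSpace.IsOpenImmersion i›
  have hV' : V = (PresheafedSpace.IsOpenImmersion.opensFunctor i.toShHom.hom).obj ((Opens.map i.base).obj V) := by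
    ext z
    constructor
    · intro hz
      obtain ⟨y, rfl⟩ := hV hz
      exact ⟨y, hz, rfl⟩
    · rintro ⟨y, hy, rfl⟩
      exact hy
  haveI : IsIso (i.c.app (op V)) := PresheafedSpace.IsOpenImmersion.c_iso' i.toShHom.hom _ hV'
  have hb := ConcreteCategory.bijective_of_isIso (i.c.app (op V))
  have e : secLE i V ((Opens.map i.base).obj V) le_rfl = (i.c.app (op V)).hom := RingHom.ext fun s ↦ by
    simp only [secLE, RingHom.comp_apply]
    rw [show (homOfLE (le_refl ((Opens.map i.base).obj V))).op = 𝟙 _ from rfl, CategoryTheory.Functor.map_id]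
    rfl
  rw [show secLE i V ((Opens.map i.base).obj V) _ = (i.c.app (op V)).hom from e]
  exact hb

theorem vanish_iff_of_isOpenImmersion {U Z : LocallyRingedSpace.{u}} (i : U ⟶ Z) (V : Opens Z)
    (hV : (V : Set Z) ⊆ Set.range i.base) (W : Opens U) (hW : (Opens.map i.base).obj V = W)
    (s : Z.presheaf.obj (op V)) : s ∈ vanish Z V ↔ secLE i V W hW.ge s ∈ vanish U W := by
  subst hW
  simp only [mem_vanish]
  constructor
  · intro h x hx
    rw [isUnit_germ_secLE_iff]
    exact h (i.base x) hx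
  · intro h z hz
    obtain ⟨x, rfl⟩ := hV hz
    have := h x hz
    rwa [isUnit_germ_secLE_iff] at this

/-- Henselian schemes have Henselian section pairs on all opens. -/
theorem allHenselian_of_isHensScheme {Z : LocallyRingedSpace.{u}} (hZ : HensSch.IsHensScheme Z) :
    AllHenselian Z := by
  refine allHenselian_of_local fun U z hz ↦ ?_
  obtain ⟨U', i, hi, ⟨x, rfl⟩, A, _, I, π, -, -, hsph⟩ := hZ z
  obtain ⟨f, hxf, hfU⟩ := exists_dOpen_le hsph ((Opens.map i.base).obj U) x hz
  have hemb : IsOpenEmbedding i.base := hi.base_open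
  let V : Opens Z := ⟨i.base '' (HensSch.dOpen π f : Set U'), hemb.isOpenMap _ (HensSch.dOpen π f).isOpen⟩
  have hW : (Opens.map i.base).obj V = HensSch.dOpen π f := Opens.ext (hemb.injective.preimage_image _)
  have hV : (V : Set Z) ⊆ Set.range i.base := Set.image_subset_range _ _
  refine ⟨V, Set.mem_image_of_mem _ hxf, fun _ ⟨y, hy, h'⟩ ↦ h' ▸ hfU hy, ?_⟩
  exact henselianRing_of_ringEquiv (RingEquiv.ofBijective _ (bijective_secLE_of_isOpenImmersion i V hV _ hW))
    (fun s ↦ vanish_iff_of_isOpenImmersion i V hV _ hW s) (henselianRing_dOpen hsph f)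

end HensSchLib
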