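import Mathlib
import Groth.Prelude.Def_HensSch
import Groth.Prelude.Def_ModSite2
import Groth.Agent.HensSchLib.Sph
import Groth.Agent.PairHensLib.Flat
import Groth.Agent.FlatMorLib.Pull

/-!
# Affine Henselian spectra are flat over the spectrum
-/

set_option autoImplicit false

universe u

open CategoryTheory Limits Opposite TopologicalSpace Topology AlgebraicGeometry IsLocalRing

namespace HensSchLib

variable {A : Type u} [CommRing A]

/-- The Henselization of `(A_f, I A_f)`, as a ring under `A`, is flat over `A`. -/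
theorem flat_of_isHensAway {I : Ideal A} {f : A} {B : Type u} [CommRing B] {φ : A →+* B}
    (h : HensSch.IsHensAway A I f B φ) : φ.Flat := by
  obtain ⟨hu, hhens, huniv⟩ := h
  letI := φ.toAlgebra
  letI : Algebra (Localization.Away f) B := (IsLocalization.Away.lift f hu).toAlgebra
  haveI : IsScalarTower A (Localization.Away f) B :=
    IsScalarTower.of_algebraMap_eq fun a => (IsLocalization.Away.lift_eq f hu a).symm
  have hmap : (I.map (algebraMap A (Localization.Away f))).map (algebraMap (Localization.Away f) B) =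
      I.map φ := by
    rw [Ideal.map_map, ← IsScalarTower.algebraMap_eq]; rfl
  have hB : Hens2.IsPairHenselization (Localization.Away f)
      (I.map (algebraMap A (Localization.Away f))) B := by
    refine ⟨hmap ▸ hhens, fun C _ J g hC hg => ?_⟩
    have hg' : I.map (g.comp (algebraMap A (Localization.Away f))) ≤ J := by
      rwa [← Ideal.map_map]
    have hgu : IsUnit (g.comp (algebraMap A (Localization.Away f)) f) :=
      (IsLocalization.Away.algebraMap_isUnit f).map g
    obtain ⟨k, hk, hkuniq⟩ := huniv C J _ hC hg' hgu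
    refine ⟨k, IsLocalization.ringHom_ext (Submonoid.powers f) ?_, fun k' hk' => hkuniq k' ?_⟩
    · rw [RingHom.comp_assoc, ← IsScalarTower.algebraMap_eq]
      exact hk
    · rw [← hk', RingHom.comp_assoc, ← IsScalarTower.algebraMap_eq]
      rfl
  haveI := PairHensLib.flat_of_isPairHenselization hB
  haveI : Module.Flat A (Localization.Away f) := IsLocalization.flat _ (Submonoid.powers f)
  show Module.Flat A B
  exact Module.Flat.trans A (Localization.Away f) B

variable {I : Ideal A} {X : LocallyRingedSpace.{u}} {π : X ⟶ HensSch.specLRS A}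

/-- The canonical map to a stalk of the affine Henselian spectrum. -/
noncomputable def secStalk (π : X ⟶ HensSch.specLRS A) (x : X) : A →+* X.presheaf.stalk x :=
  (π.stalkMap x).hom.comp (StructureSheaf.toStalk A (π.base x)).hom

theorem germ_secMap (U : Opens (PrimeSpectrum A)) (x : X) (hx : x ∈ (Opens.map π.base).obj U) (a : A) :
    (X.presheaf.germ _ x hx).hom (HensSch.secMap π U a) = secStalk π x a := by
  rw [secMap_apply, germ_secLE]
  exact congrArg (π.stalkMap x).hom (StructureSheaf.algebraMap_germ_apply (R := A) U (π.base x) hx a)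

theorem exists_dOpen_germ_eq (h : HensSch.IsSph A I X π) (x : X) (s : X.presheaf.stalk x)
    (V : Opens X) (hV : x ∈ V) :
    ∃ (f : A) (hx : x ∈ HensSch.dOpen π f) (_ : HensSch.dOpen π f ≤ V)
      (t : X.presheaf.obj (op (HensSch.dOpen π f))), (X.presheaf.germ _ x hx).hom t = s := by
  obtain ⟨U, hU, t, rfl⟩ := X.presheaf.exists_germ_eq (x := x) s
  obtain ⟨f, hxf, hf⟩ := exists_dOpen_le h (U ⊓ V) x ⟨hU, hV⟩
  exact ⟨f, hxf, hf.trans inf_le_right, _,
    TopCat.Presheaf.germ_res_apply X.presheaf (homOfLE (hf.trans inf_le_left)) x hxf t⟩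

/-- The stalks of an affine Henselian spectrum are flat over the ring. -/
theorem flat_secStalk (h : HensSch.IsSph A I X π) (x : X) : (secStalk π x).Flat := by
  letI := (secStalk π x).toAlgebra
  show Module.Flat A (X.presheaf.stalk x)
  rw [Module.Flat.iff_forall_isTrivialRelation]
  intro l r y hry
  classical
  -- common neighbourhood for all the `y i`
  choose f hxf _ t ht using fun i => exists_dOpen_germ_eq h x (y i) ⊤ trivial
  have hxU : x ∈ Finset.univ.inf (fun i => HensSch.dOpen π (f i)) :=
    Finset.inf_induction (p := fun U : Opens X => x ∈ U) trivial (fun _ hU _ hV => ⟨hU, hV⟩)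
      (fun i _ => hxf i)
  obtain ⟨g, hxg, hg⟩ := exists_dOpen_le h _ x hxU
  let res : ∀ {U W : Opens X}, W ≤ U → X.presheaf.obj (op U) → X.presheaf.obj (op W) :=
    fun hWU s => (X.presheaf.map (homOfLE hWU).op).hom s
  let t' : Fin l → X.presheaf.obj (op (HensSch.dOpen π g)) :=
    fun i => res (hg.trans (Finset.inf_le (Finset.mem_univ i))) (t i)
  have ht' : ∀ i, (X.presheaf.germ _ x hxg).hom (t' i) = y i := fun i =>
    (TopCat.Presheaf.germ_res_apply X.presheaf _ x hxg (t i)).trans (ht i)
  have hz : (X.presheaf.germ _ x hxg).hom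
      (∑ i, HensSch.secMap π (PrimeSpectrum.basicOpen g) (r i) * t' i) =
      (X.presheaf.germ _ x hxg).hom 0 := by
    rw [map_sum, map_zero, ← hry]
    refine Finset.sum_congr rfl fun i _ => ?_
    rw [map_mul, germ_secMap, ht']
    rfl
  obtain ⟨W, hxW, i₁, i₂, hW⟩ := X.presheaf.germ_eq x hxg hxg _ _ hz
  obtain ⟨g', hxg', hg'⟩ := exists_dOpen_le h W x hxW
  have hg'g : HensSch.dOpen π g' ≤ HensSch.dOpen π g := hg'.trans i₁.le
  letI := (HensSch.secMap π (PrimeSpectrum.basicOpen g')).toAlgebra
  haveI : Module.Flat A (X.presheaf.obj (op (HensSch.dOpen π g'))) := flat_of_isHensAway (h.2.2 g')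
  let G := (X.presheaf.germ (HensSch.dOpen π g') x hxg').hom
  let t'' : Fin l → X.presheaf.obj (op (HensSch.dOpen π g')) := fun i => res hg'g (t' i)
  have hG : ∀ a, G (HensSch.secMap π (PrimeSpectrum.basicOpen g') a) = secStalk π x a :=
    fun a => germ_secMap _ x hxg' a
  have hres : ∀ a, res hg'g (HensSch.secMap π (PrimeSpectrum.basicOpen g) a) =
      (X.presheaf.map (homOfLE hg'g).op).hom (HensSch.secMap π (PrimeSpectrum.basicOpen g) a) :=
    fun a => rfl
  have hres' : ∀ a, (X.presheaf.map (homOfLE hg'g).op).hom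
      (HensSch.secMap π (PrimeSpectrum.basicOpen g) a) =
      HensSch.secMap π (PrimeSpectrum.basicOpen g') a := by
    intro a
    simp only [HensSch.secMap, RingHom.comp_apply]
    rw [← CommRingCat.comp_apply, ← X.presheaf.map_comp]
    rfl
  have hrel : ∑ i, r i • t'' i = 0 := by
    have h1 := congrArg (X.presheaf.map (homOfLE hg').op).hom hW
    rw [← CommRingCat.comp_apply, ← CommRingCat.comp_apply, ← X.presheaf.map_comp,
      ← X.presheaf.map_comp, map_zero, map_sum] at h1
    refine Eq.trans (Finset.sum_congr rfl fun i _ => ?_) h1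
    rw [map_mul]
    exact congrArg₂ (· * ·) (hres' (r i)).symm rfl
  obtain ⟨k, a, z, hz1, hz2⟩ := Module.Flat.isTrivialRelation_of_sum_smul_eq_zero
    (R := A) (M := X.presheaf.obj (op (HensSch.dOpen π g'))) (f := r) (x := t'') hrel
  refine ⟨k, a, fun j => G (z j), fun i => ?_, hz2⟩
  have h3 : y i = G (t'' i) :=
    ((TopCat.Presheaf.germ_res_apply X.presheaf (homOfLE hg'g) x hxg' (t' i)).trans (ht' i)).symm
  rw [h3, hz1, map_sum]
  refine Finset.sum_congr rfl fun j _ => ?_
  rw [Algebra.smul_def, Algebra.smul_def, map_mul]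
  exact congrArg₂ (· * ·) (hG _) rfl

/-- Local rings of an affine Henselian spectrum are flat over those of the spectrum. -/
theorem flat_stalkMap (h : HensSch.IsSph A I X π) (x : X) : (π.stalkMap x).hom.Flat := by
  let R := (HensSch.specLRS A).presheaf.stalk (π.base x)
  letI : Algebra A R := (StructureSheaf.toStalk A (π.base x)).hom.toAlgebra
  haveI : IsLocalization.AtPrime R (π.base x : PrimeSpectrum A).asIdeal :=
    StructureSheaf.IsLocalization.to_stalk A (π.base x)
  letI := (π.stalkMap x).hom.toAlgebra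
  letI := (secStalk π x).toAlgebra
  haveI : IsScalarTower A R (X.presheaf.stalk x) := IsScalarTower.of_algebraMap_eq fun _ => rfl
  show Module.Flat R (X.presheaf.stalk x)
  exact (Module.flat_iff_of_isLocalization (R := A) R (π.base x : PrimeSpectrum A).asIdeal.primeCompl
    (X.presheaf.stalk x)).2 (flat_secStalk h x)

/-- The pullback of modules along a morphism with flat stalk maps is left exact. -/
theorem preservesFiniteLimits_pullMod {X Y : LocallyRingedSpace.{u}} (g : X ⟶ Y)
    (hg : ∀ x, (g.stalkMap x).hom.Flat) : PreservesFiniteLimits (HensSch.pullMod g) :=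
  FlatMorLib.isFlat_ofFlat g.base X.sheaf Y.sheaf ⟨g.c⟩ hg

theorem mono_of_app_injective' {Z : Scheme.{u}} {F G : Z.Modules} (φ : F ⟶ G)
    (h : ∀ V : Z.Opens, Function.Injective (φ.app V)) : Mono φ :=
  ⟨fun a b hab => SheafOfModules.hom_ext (PresheafOfModules.hom_ext fun V => by
    ext s
    exact h V.unop (congrArg (fun q => q.app V.unop s) hab))⟩

/-- `M ↦ M~` on a spectrum preserves monomorphisms. -/
theorem tilde_preservesMono (R : CommRingCat.{u}) : (tilde.functor R).PreservesMonomorphisms :=
  ⟨fun {M N} f hf => mono_of_app_injective' _ fun V s s' hss => by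
    refine Subtype.ext (funext fun y => ?_)
    exact IsLocalizedModule.map_injective y.1.asIdeal.primeCompl
      (LocalizedModule.mkLinearMap y.1.asIdeal.primeCompl M)
      (LocalizedModule.mkLinearMap y.1.asIdeal.primeCompl N) f.hom
      ((ModuleCat.mono_iff_injective f).1 hf) (congrFun (congrArg Subtype.val hss) y)⟩

/-- `M ↦ M~` on a spectrum is exact. -/
theorem tilde_preservesFiniteLimits (R : CommRingCat.{u}) : PreservesFiniteLimits (tilde.functor R) := by
  haveI := tilde_preservesMono R
  haveI : (tilde.functor R).IsLeftAdjoint := tilde.adjunction.isLeftAdjoint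
  haveI := Functor.preservesHomology_of_preservesMonos_and_cokernels (tilde.functor R)
  exact Functor.preservesFiniteLimits_of_preservesHomology (tilde.functor R)

theorem flat_hom_comp {B C D : CommRingCat.{u}} (f : B ⟶ C) (g : C ⟶ D) (hf : f.hom.Flat)
    (hg : g.hom.Flat) : (f ≫ g).hom.Flat :=
  RingHom.Flat.comp hf hg

/-- Stalk maps of a Henselization along a closed subset are flat. -/
theorem flat_stalkMap_of_isHenselizationAlong {S : Scheme.{u}} {Y : Set S}
    {Sh : LocallyRingedSpace.{u}} {ι : Sh ⟶ S.toLocallyRingedSpace}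
    (h : HensSch.IsHenselizationAlong S Y Sh ι) (z : Sh) : (ι.stalkMap z).hom.Flat := by
  obtain ⟨-, -, hrange, hch⟩ := h
  obtain ⟨A, _, j, hj, hxj, V, v, hv, π, hVr, hcomm, hsph⟩ := hch (ι.base z) (hrange ▸ ⟨z, rfl⟩)
  obtain ⟨w, rfl⟩ : z ∈ Set.range v.base := by rw [hVr]; exact hxj
  haveI hjL : LocallyRingedSpace.IsOpenImmersion j.toLRSHom := hj
  have key : ∀ {g g' : V ⟶ S.toLocallyRingedSpace} (_ : g = g'),
      (g.stalkMap w).hom.Flat → (g'.stalkMap w).hom.Flat := fun e hh => e ▸ hh
  have h1 : ((π ≫ j.toLRSHom).stalkMap w).hom.Flat := by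
    rw [LocallyRingedSpace.stalkMap_comp]
    haveI : IsIso (j.toLRSHom.stalkMap (π.base w)) :=
      inferInstanceAs (IsIso (j.stalkMap (π.base w)))
    exact flat_hom_comp _ _ (RingHom.Flat.of_bijective
      (ConcreteCategory.bijective_of_isIso (j.stalkMap (π.base w))))
      (flat_stalkMap hsph w)
  have h2 : ((v ≫ ι).stalkMap w).hom.Flat := key hcomm.symm h1
  rw [LocallyRingedSpace.stalkMap_comp] at h2
  have h3 : ι.stalkMap (v.base w) = (ι.stalkMap (v.base w) ≫ v.stalkMap w) ≫ inv (v.stalkMap w) := by
    rw [Category.assoc, IsIso.hom_inv_id, Category.comp_id]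
  rw [h3]
  exact flat_hom_comp _ _ h2 (RingHom.Flat.of_bijective (ConcreteCategory.bijective_of_isIso _))

end HensSchLib
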