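import Mathlib
import Groth.Prelude.Def_HensSch
import Groth.Agent.HensSchLib.Basic
import Groth.Agent.HensSchLib.Sph

/-!
# The universal property of the Henselization along a closed subset
-/

set_option autoImplicit false

universe u

open CategoryTheory Opposite TopologicalSpace Topology AlgebraicGeometry IsLocalRing

namespace HensSchLib

variable {Xh X Z : LocallyRingedSpace.{u}} (ι : Xh ⟶ X)

/-- An open of the base over which the Henselization has the universal property. -/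
structure Good (Ω : Opens X) : Prop where
  univ : ∀ (C : Type u) [CommRing C] (J : Ideal C) (g : X.presheaf.obj (op Ω) →+* C), HenselianRing C J →
    (∀ s, secLE ι Ω _ le_rfl s ∈ vanish Xh ((Opens.map ι.base).obj Ω) → g s ∈ J) →
      ∃! h : Xh.presheaf.obj (op ((Opens.map ι.base).obj Ω)) →+* C, h.comp (secLE ι Ω _ le_rfl) = g
  gen : ∀ (x : Xh) (hx : x ∈ (Opens.map ι.base).obj Ω) (s : Xh.presheaf.obj (op ((Opens.map ι.base).obj Ω))),
    ∃ t u : X.presheaf.obj (op Ω),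
      ∃ w ∈ ((vanish Xh ((Opens.map ι.base).obj Ω)).comap (secLE ι Ω _ le_rfl)).map (secLE ι Ω _ le_rfl),
        IsUnit ((Xh.presheaf.germ _ x hx).hom (secLE ι Ω _ le_rfl u)) ∧
          s * secLE ι Ω _ le_rfl u = secLE ι Ω _ le_rfl t + w

/-- The good opens are plentiful. -/
def EnoughGood : Prop :=
  ∀ (x : Xh) (O : Opens X), ι.base x ∈ O → ∃ Ω : Opens X, Good ι Ω ∧ ι.base x ∈ Ω ∧ Ω ≤ O

variable {ι}

theorem isBasis_good (hemb : IsEmbedding ι.base) (hG : EnoughGood ι) :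
    Opens.IsBasis (Set.range fun Ω : {Ω : Opens X // Good ι Ω} ↦ (Opens.map ι.base).obj Ω.1) := by
  rw [Opens.isBasis_iff_nbhd]
  intro U x hx
  obtain ⟨O, hO, hOU⟩ := hemb.isInducing.isOpen_iff.mp U.isOpen
  obtain ⟨Ω, hΩ, hxΩ, hΩO⟩ := hG x ⟨O, hO⟩ ((Set.ext_iff.mp hOU x).mpr hx)
  exact ⟨_, ⟨⟨Ω, hΩ⟩, rfl⟩, hxΩ, fun y hy ↦ (Set.ext_iff.mp hOU y).mp (hΩO hy)⟩

variable {g : Z ⟶ X}

theorem germ_unit_congr {Ω : Opens X} (s : X.presheaf.obj (op Ω)) {p q : X} (hp : p ∈ Ω) (hq : q ∈ Ω)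
    (h : p = q) : IsUnit ((X.presheaf.germ Ω p hp).hom s) ↔ IsUnit ((X.presheaf.germ Ω q hq).hom s) := by
  subst h; rfl

theorem map_homOfLE_self (Z : LocallyRingedSpace.{u}) (W : Opens Z) (e : W ≤ W) (x : Z.presheaf.obj (op W)) :
    (Z.presheaf.map (homOfLE e).op).hom x = x := by
  rw [show (homOfLE e).op = 𝟙 (op W) from rfl, CategoryTheory.Functor.map_id]
  rfl

theorem sec_mem_vanish {b : Z → Xh} (hb : ∀ z, ι.base (b z) = g.base z) {Ω : Opens X} {W : Opens Z}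
    (e : W ≤ (Opens.map g.base).obj Ω) {s : X.presheaf.obj (op Ω)}
    (hs : secLE ι Ω _ le_rfl s ∈ vanish Xh ((Opens.map ι.base).obj Ω)) : secLE g Ω W e s ∈ vanish Z W := by
  rw [mem_vanish] at hs ⊢
  intro z hz
  rw [isUnit_germ_secLE_iff]
  have hbz : b z ∈ (Opens.map ι.base).obj Ω := by
    show ι.base (b z) ∈ Ω
    rw [hb]; exact e hz
  have h1 := hs (b z) hbz
  rw [isUnit_germ_secLE_iff] at h1
  exact fun h ↦ h1 ((germ_unit_congr s _ _ (hb z)).mpr h)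

variable (hZ : AllHenselian Z) {b : Z.toTopCat ⟶ Xh.toTopCat} (hb : ∀ z, ι.base (b z) = g.base z)

include hb in
theorem preimage_le (Ω : Opens X) :
    (Opens.map b).obj ((Opens.map ι.base).obj Ω) ≤ (Opens.map g.base).obj Ω := fun z hz ↦ by
  show g.base z ∈ Ω
  rw [← hb]; exact hz

/-- The map on sections over a good open. -/
noncomputable def comp0 (Ω : Opens X) (hΩ : Good ι Ω) :
    Xh.presheaf.obj (op ((Opens.map ι.base).obj Ω)) →+*
      Z.presheaf.obj (op ((Opens.map b).obj ((Opens.map ι.base).obj Ω))) :=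
  (hΩ.univ _ _ (secLE g Ω _ (preimage_le hb Ω)) (hZ _) fun _ hs ↦ sec_mem_vanish hb _ hs).exists.choose

theorem comp0_apply (Ω : Opens X) (hΩ : Good ι Ω) (s : X.presheaf.obj (op Ω)) :
    comp0 hZ hb Ω hΩ (secLE ι Ω _ le_rfl s) = secLE g Ω _ (preimage_le hb Ω) s :=
  RingHom.congr_fun
    (hΩ.univ _ _ (secLE g Ω _ (preimage_le hb Ω)) (hZ _) fun _ hs ↦ sec_mem_vanish hb _ hs).exists.choose_spec s

theorem hom_unique (Ω : Opens X) (hΩ : Good ι Ω) (W : Opens Z) (e : W ≤ (Opens.map g.base).obj Ω)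
    (h₁ h₂ : Xh.presheaf.obj (op ((Opens.map ι.base).obj Ω)) →+* Z.presheaf.obj (op W))
    (hh₁ : ∀ s, h₁ (secLE ι Ω _ le_rfl s) = secLE g Ω W e s)
    (hh₂ : ∀ s, h₂ (secLE ι Ω _ le_rfl s) = secLE g Ω W e s)
    (hZ : AllHenselian Z) (hb : ∀ z, ι.base (b z) = g.base z) : h₁ = h₂ :=
  (hΩ.univ _ _ (secLE g Ω W e) (hZ W) fun _ hs ↦ sec_mem_vanish (b := b) hb _ hs).unique
    (RingHom.ext hh₁) (RingHom.ext hh₂)

/-- Compatibility of the maps with sections of the base over arbitrary opens. -/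
theorem comp0_secLE (hemb : IsEmbedding ι.base) (hG : EnoughGood ι) (Ω : Opens X) (hΩ : Good ι Ω) (V : Opens X)
    (hV : (Opens.map ι.base).obj Ω ≤ (Opens.map ι.base).obj V)
    (e : (Opens.map b).obj ((Opens.map ι.base).obj Ω) ≤ (Opens.map g.base).obj V)
    (s : X.presheaf.obj (op V)) :
    comp0 hZ hb Ω hΩ (secLE ι V _ hV s) = secLE g V _ e s := by
  let J := {Ω' : Opens X // Good ι Ω' ∧ Ω' ≤ Ω ⊓ V}
  let W (j : J) : Opens Z := (Opens.map b).obj ((Opens.map ι.base).obj j.1)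
  have hW : ∀ j : J, W j ≤ (Opens.map b).obj ((Opens.map ι.base).obj Ω) :=
    fun j z hz ↦ (j.2.2 hz).1
  refine TopCat.Sheaf.eq_of_locally_eq' Z.sheaf W _ (fun j ↦ homOfLE (hW j)) (fun z hz ↦ ?_) _ _ fun j ↦ ?_
  · obtain ⟨Ω', hΩ', hxΩ', hle⟩ := hG (b z) (Ω ⊓ V) ⟨hz, hV hz⟩
    exact Opens.mem_iSup.mpr ⟨⟨Ω', hΩ', hle⟩, hxΩ'⟩
  show (Z.presheaf.map (homOfLE (hW j)).op).hom _ = (Z.presheaf.map (homOfLE (hW j)).op).hom _
  have hle₁ : j.1 ≤ Ω := fun x hx ↦ (j.2.2 hx).1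
  have hle₂ : j.1 ≤ V := fun x hx ↦ (j.2.2 hx).2
  have hι : (Opens.map ι.base).obj j.1 ≤ (Opens.map ι.base).obj Ω := fun x hx ↦ hle₁ hx
  have h1 : ((Z.presheaf.map (homOfLE (hW j)).op).hom).comp (comp0 hZ hb Ω hΩ) =
      (comp0 hZ hb j.1 j.2.1).comp (Xh.presheaf.map (homOfLE hι).op).hom := by
    refine hom_unique Ω hΩ _ ((hW j).trans (preimage_le hb Ω)) _ _ (fun t ↦ ?_) (fun t ↦ ?_) hZ hb
    · rw [RingHom.comp_apply, comp0_apply, secLE_res_tgt]
    · rw [RingHom.comp_apply, secLE_res_tgt]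
      rw [show secLE ι Ω ((Opens.map ι.base).obj j.1) _ t =
        secLE ι j.1 ((Opens.map ι.base).obj j.1) le_rfl ((X.presheaf.map (homOfLE hle₁).op).hom t) from
          (secLE_res_src ι Ω j.1 _ hle₁ le_rfl t).symm, comp0_apply, secLE_res_src]
  have h2 := RingHom.congr_fun h1 (secLE ι V _ hV s)
  rw [RingHom.comp_apply] at h2
  refine h2.trans ?_
  rw [RingHom.comp_apply, secLE_res_tgt, secLE_res_tgt]
  rw [show secLE ι V ((Opens.map ι.base).obj j.1) _ s =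
    secLE ι j.1 ((Opens.map ι.base).obj j.1) le_rfl ((X.presheaf.map (homOfLE hle₂).op).hom s) from
      (secLE_res_src ι V j.1 _ hle₂ le_rfl s).symm, comp0_apply, secLE_res_src]

theorem comp0_res (hemb : IsEmbedding ι.base) (hG : EnoughGood ι) (Ω Ω' : Opens X) (hΩ : Good ι Ω)
    (hΩ' : Good ι Ω') (h : (Opens.map ι.base).obj Ω ≤ (Opens.map ι.base).obj Ω') :
    (comp0 hZ hb Ω hΩ).comp (Xh.presheaf.map (homOfLE h).op).hom =
      ((Z.presheaf.map (homOfLE (show (Opens.map b).obj ((Opens.map ι.base).obj Ω) ≤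
        (Opens.map b).obj ((Opens.map ι.base).obj Ω') from fun _ hz ↦ h hz)).op).hom).comp
        (comp0 hZ hb Ω' hΩ') := by
  have e : (Opens.map b).obj ((Opens.map ι.base).obj Ω) ≤ (Opens.map g.base).obj Ω' :=
    fun z hz ↦ preimage_le hb Ω' (h hz)
  refine hom_unique Ω' hΩ' _ e _ _ (fun t ↦ ?_) (fun t ↦ ?_) hZ hb
  · rw [RingHom.comp_apply, secLE_res_tgt, comp0_secLE hZ hb hemb hG Ω hΩ Ω' h e]
  · rw [RingHom.comp_apply, comp0_apply, secLE_res_tgt]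

/-- Two morphisms with the same map of spaces agreeing on sections are equal. -/
theorem hom_ext_base {Y : LocallyRingedSpace.{u}} {u' v' : Z ⟶ Y}
    (h : ∀ (O : Opens Y) (s : Y.presheaf.obj (op O)) (W : Opens Z) (e₁ : W ≤ (Opens.map u'.base).obj O)
      (e₂ : W ≤ (Opens.map v'.base).obj O), secLE u' O W e₁ s = secLE v' O W e₂ s)
    (hbase : u'.base = v'.base) : u' = v' := by
  obtain ⟨⟨b₁, c₁⟩, p₁⟩ := u'
  obtain ⟨⟨b₂, c₂⟩, p₂⟩ := v'
  obtain rfl : b₁ = b₂ := hbase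
  obtain rfl : c₁ = c₂ := by
    refine NatTrans.ext (funext fun O ↦ CommRingCat.hom_ext (RingHom.ext fun s ↦ ?_))
    have := h O.unop s _ le_rfl le_rfl
    simp only [secLE, RingHom.comp_apply] at this
    erw [map_homOfLE_self, map_homOfLE_self] at this
    exact this
  rfl

/-- Two morphisms with the same map of spaces agreeing on a basis are equal. -/
theorem hom_ext_basis {κ : Type*} {B : κ → Opens Xh} (hB : Opens.IsBasis (Set.range B)) (u' v' : Z ⟶ Xh)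
    (hbase : u'.base = v'.base)
    (h : ∀ (k : κ) (s : Xh.presheaf.obj (op (B k))) (W : Opens Z) (e₁ : W ≤ (Opens.map u'.base).obj (B k))
      (e₂ : W ≤ (Opens.map v'.base).obj (B k)), secLE u' (B k) W e₁ s = secLE v' (B k) W e₂ s) : u' = v' := by
  obtain ⟨⟨b₁, c₁⟩, p₁⟩ := u'
  obtain ⟨⟨b₂, c₂⟩, p₂⟩ := v'
  obtain rfl : b₁ = b₂ := hbase
  have hc : c₁ = c₂ := by
    refine TopCat.Sheaf.hom_ext Xh.presheaf ((TopCat.Sheaf.pushforward _ b₁).obj Z.sheaf) hB fun k ↦ ?_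
    refine CommRingCat.hom_ext (RingHom.ext fun s ↦ ?_)
    have := h k s _ le_rfl le_rfl
    simp only [secLE, RingHom.comp_apply] at this
    erw [map_homOfLE_self, map_homOfLE_self] at this
    exact this
  subst hc
  rfl

theorem existsUnique_lift (hemb : IsEmbedding ι.base) (hG : EnoughGood ι) (hZ : AllHenselian Z) (g : Z ⟶ X)
    (hg : Set.range g.base ⊆ Set.range ι.base) : ∃! g' : Z ⟶ Xh, g' ≫ ι = g := by
  choose b₀ hb₀ using fun z ↦ hg ⟨z, rfl⟩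
  have hcont : Continuous b₀ := by
    rw [hemb.isInducing.continuous_iff]
    exact g.base.hom.continuous.congr fun z ↦ (hb₀ z).symm
  let b : Z.toTopCat ⟶ Xh.toTopCat := TopCat.ofHom ⟨b₀, hcont⟩
  have hb : ∀ z, ι.base (b z) = g.base z := hb₀
  have hB := isBasis_good hemb hG
  let α : (inducedFunctor fun Ω : {Ω : Opens X // Good ι Ω} ↦ (Opens.map ι.base).obj Ω.1).op ⋙ Xh.presheaf ⟶
      (inducedFunctor fun Ω : {Ω : Opens X // Good ι Ω} ↦ (Opens.map ι.base).obj Ω.1).op ⋙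
        ((TopCat.Sheaf.pushforward _ b).obj Z.sheaf).1 :=
    { app := fun Ω ↦ CommRingCat.ofHom (comp0 hZ hb Ω.unop.1 Ω.unop.2)
      naturality := fun Ω' Ω k ↦ CommRingCat.hom_ext
        (comp0_res hZ hb hemb hG Ω.unop.1 Ω'.unop.1 Ω.unop.2 Ω'.unop.2 k.unop.hom.le) }
  let c := TopCat.Sheaf.restrictHomEquivHom Xh.presheaf ((TopCat.Sheaf.pushforward _ b).obj Z.sheaf) hB α
  have hc : ∀ (Ω : {Ω : Opens X // Good ι Ω}),
      c.app (op ((Opens.map ι.base).obj Ω.1)) = CommRingCat.ofHom (comp0 hZ hb Ω.1 Ω.2) := fun Ω ↦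
    TopCat.Sheaf.extend_hom_app _ _ hB α Ω
  let m : Z.toPresheafedSpace.Hom Xh.toPresheafedSpace := ⟨b, c⟩
  have hprop : ∀ z : Z, IsLocalHom (PresheafedSpace.Hom.stalkMap m z).hom := fun z ↦ by
    refine ⟨fun t ht ↦ ?_⟩
    obtain ⟨U, hzU, s, rfl⟩ := Xh.presheaf.exists_germ_eq t
    obtain ⟨_, ⟨Ω, rfl⟩, hzΩ, hΩU⟩ := Opens.isBasis_iff_nbhd.mp hB hzU
    rw [← germ_res Xh hΩU (b z) hzΩ] at ht ⊢
    generalize (Xh.presheaf.map (homOfLE hΩU).op).hom s = s' at ht ⊢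
    have h1 := PresheafedSpace.stalkMap_germ_apply m ((Opens.map ι.base).obj Ω.1) z hzΩ s'
    have h2 : IsUnit ((Z.presheaf.germ ((Opens.map b).obj ((Opens.map ι.base).obj Ω.1)) z hzΩ).hom
        (comp0 hZ hb Ω.1 Ω.2 s')) := by
      have h3 := hc Ω
      rw [show (Z.presheaf.germ ((Opens.map b).obj ((Opens.map ι.base).obj Ω.1)) z hzΩ).hom
        (comp0 hZ hb Ω.1 Ω.2 s') = (PresheafedSpace.Hom.stalkMap m z).hom
          ((Xh.presheaf.germ _ (b z) hzΩ).hom s') from by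
        rw [show comp0 hZ hb Ω.1 Ω.2 s' = (c.app (op ((Opens.map ι.base).obj Ω.1))).hom s' by rw [h3]; rfl]
        exact h1.symm]
      exact ht
    obtain ⟨t', u', w, hw, hu', hsv⟩ := Ω.2.gen (b z) hzΩ s'
    by_contra hns
    have hle := preimage_le hb Ω.1
    have hconv : ∀ q, IsUnit ((Z.presheaf.germ _ z hzΩ).hom (secLE g Ω.1 _ hle q)) ↔
        IsUnit ((Xh.presheaf.germ _ (b z) hzΩ).hom (secLE ι Ω.1 _ le_rfl q)) := fun q ↦ by
      rw [isUnit_germ_secLE_iff, isUnit_germ_secLE_iff]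
      exact (germ_unit_congr q _ _ (hb z)).symm
    have hwX : ¬ IsUnit ((Xh.presheaf.germ _ (b z) hzΩ).hom w) :=
      mem_vanish.mp (Ideal.map_comap_le hw) _ _
    have h4 : ¬ IsUnit ((Xh.presheaf.germ _ (b z) hzΩ).hom (secLE ι Ω.1 _ le_rfl t')) := by
      intro hu
      have h5 := Ideal.sub_mem _ (Ideal.mul_mem_right ((Xh.presheaf.germ _ (b z) hzΩ).hom
        (secLE ι Ω.1 _ le_rfl u')) _ ((mem_maximalIdeal _).mpr hns)) ((mem_maximalIdeal _).mpr hwX)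
      rw [← map_mul, hsv, map_add, add_sub_cancel_right] at h5
      exact (mem_maximalIdeal _).mp h5 hu
    have hwZ : comp0 hZ hb Ω.1 Ω.2 w ∈ vanish Z _ := by
      have h6 : comp0 hZ hb Ω.1 Ω.2 w ∈ (((vanish Xh ((Opens.map ι.base).obj Ω.1)).comap
          (secLE ι Ω.1 _ le_rfl)).map (secLE ι Ω.1 _ le_rfl)).map (comp0 hZ hb Ω.1 Ω.2) :=
        Ideal.mem_map_of_mem _ hw
      rw [Ideal.map_map] at h6
      refine (Ideal.map_le_iff_le_comap.mpr fun q hq ↦ ?_) h6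
      rw [Ideal.mem_comap, RingHom.comp_apply, comp0_apply]
      exact sec_mem_vanish hb _ hq
    have hsum := congrArg (fun q ↦ (Z.presheaf.germ _ z hzΩ).hom (comp0 hZ hb Ω.1 Ω.2 q)) hsv
    simp only [map_mul, map_add, comp0_apply] at hsum
    have h7 := h2.mul ((hconv u').mpr hu')
    rw [hsum] at h7
    refine (mem_maximalIdeal _).mp (Ideal.add_mem _ ((mem_maximalIdeal _).mpr fun h ↦ h4 ((hconv t').mp h))
      ((mem_maximalIdeal _).mpr (mem_vanish.mp hwZ z hzΩ))) h7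
  let g' : Z ⟶ Xh := ⟨m, hprop⟩
  have hsec : ∀ (Ω : {Ω : Opens X // Good ι Ω}) (W : Opens Z)
      (e : W ≤ (Opens.map b).obj ((Opens.map ι.base).obj Ω.1)) (q),
      secLE g' ((Opens.map ι.base).obj Ω.1) W e q = (Z.presheaf.map (homOfLE e).op).hom (comp0 hZ hb Ω.1 Ω.2 q) := by
    intro Ω W e q
    show (Z.presheaf.map (homOfLE e).op).hom ((c.app (op ((Opens.map ι.base).obj Ω.1))).hom q) = _
    rw [hc Ω]
    rfl
  refine ⟨g', ?_, ?_⟩
  · refine hom_ext_base (fun O s W e₁ e₂ ↦ ?_) (TopCat.hom_ext (ContinuousMap.ext hb₀))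
    let J := {Ω : Opens X // Good ι Ω ∧ Ω ≤ O}
    let V (j : J) : Opens Z := W ⊓ (Opens.map b).obj ((Opens.map ι.base).obj j.1)
    refine TopCat.Sheaf.eq_of_locally_eq' Z.sheaf V W (fun j ↦ homOfLE inf_le_left) (fun z hz ↦ ?_) _ _ fun j ↦ ?_
    · obtain ⟨Ω, hΩ, hzΩ, hle⟩ := hG (b z) O (e₁ hz)
      exact Opens.mem_iSup.mpr ⟨⟨Ω, hΩ, hle⟩, hz, hzΩ⟩
    show (Z.presheaf.map (homOfLE _).op).hom _ = (Z.presheaf.map (homOfLE _).op).hom _
    have hV : (Opens.map ι.base).obj j.1 ≤ (Opens.map ι.base).obj O := fun x hx ↦ j.2.2 hx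
    have he : V j ≤ (Opens.map b).obj ((Opens.map ι.base).obj j.1) := inf_le_right
    rw [secLE_res_tgt, secLE_res_tgt, ← secLE_comp g' ι O ((Opens.map ι.base).obj j.1) (V j) hV he,
      hsec ⟨j.1, j.2.1⟩, comp0_secLE hZ hb hemb hG j.1 j.2.1 O hV
        (fun z hz ↦ preimage_le hb O (hV hz)), secLE_res_tgt]
  · intro g'' hg''
    have hbase : g''.base = b := by
      refine TopCat.hom_ext (ContinuousMap.ext fun z ↦ hemb.injective ?_)
      show ι.base (g''.base z) = ι.base (b z)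
      rw [hb, ← hg'']
      rfl
    refine hom_ext_basis hB g'' g' hbase fun Ω q W e₁ e₂ ↦ ?_
    rw [hsec Ω W e₂]
    have e : W ≤ (Opens.map g.base).obj Ω.1 := fun z hz ↦ preimage_le hb Ω.1 (e₂ hz)
    refine RingHom.congr_fun (hom_unique Ω.1 Ω.2 W e (secLE g'' _ W e₁)
      (((Z.presheaf.map (homOfLE e₂).op).hom).comp (comp0 hZ hb Ω.1 Ω.2)) (fun t ↦ ?_) (fun t ↦ ?_) hZ hb) q
    · subst hg''
      rw [secLE_comp]
    · rw [RingHom.comp_apply, comp0_apply, secLE_res_tgt]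

end HensSchLib
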