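import Mathlib
import Groth.Prelude.Def_HensSch
import Groth.Agent.HensSchLib.Univ

/-!
# The Henselization along a closed subset has enough good opens
-/

set_option autoImplicit false

universe u

open CategoryTheory Opposite TopologicalSpace Topology AlgebraicGeometry IsLocalRing

namespace HensSchLib

variable {Xh X Y : LocallyRingedSpace.{u}}

theorem secLE_congr {f f' : Xh ⟶ X} (h : f = f') (U : Opens X) (W : Opens Xh)
    (e : W ≤ (Opens.map f.base).obj U) (s : X.presheaf.obj (op U)) :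
    secLE f U W e s = secLE f' U W (h ▸ e) s := by
  subst h; rfl

theorem good_of_chart {A : Type u} [CommRing A] {I : Ideal A} {V : LocallyRingedSpace.{u}}
    {π : V ⟶ HensSch.specLRS A} (hsph : HensSch.IsSph A I V π) (ι : Xh ⟶ X) (v : V ⟶ Xh)
    [LocallyRingedSpace.IsOpenImmersion v] (j : HensSch.specLRS A ⟶ X)
    [LocallyRingedSpace.IsOpenImmersion j] (hcomm : v ≫ ι = π ≫ j)
    (hrange : Set.range v.base = ι.base ⁻¹' Set.range j.base) (f : A) (Ω : Opens X)
    (hΩ : (Ω : Set X) = j.base '' (PrimeSpectrum.basicOpen f : Set (PrimeSpectrum A))) : Good ι Ω := by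
  let D : Opens (PrimeSpectrum A) := PrimeSpectrum.basicOpen f
  haveI hj' : PresheafedSpace.IsOpenImmersion j.toShHom.hom := ‹LocallyRingedSpace.IsOpenImmersion j›
  have hjemb : IsOpenEmbedding j.base := hj'.base_open
  have hjΩ : (Opens.map j.base).obj Ω = D := Opens.ext (by
    show j.base ⁻¹' (Ω : Set X) = _
    rw [hΩ]; exact hjemb.injective.preimage_image _)
  let U : Opens Xh := (Opens.map ι.base).obj Ω
  have hsq : ∀ y, ι.base (v.base y) = j.base (π.base y) := fun y ↦ by
    exact congrArg (fun q : V ⟶ X ↦ q.base y) hcomm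
  have hU : (U : Set Xh) ⊆ Set.range v.base := by
    intro x hx
    rw [hrange]
    have hx' : ι.base x ∈ (Ω : Set X) := hx
    rw [hΩ] at hx'
    obtain ⟨p, -, hp⟩ := hx'
    exact ⟨p, hp⟩
  have hvU : (Opens.map v.base).obj U = HensSch.dOpen π f := Opens.ext (Set.ext fun y ↦ by
    show ι.base (v.base y) ∈ (Ω : Set X) ↔ π.base y ∈ (D : Set (PrimeSpectrum A))
    rw [hsq, hΩ]
    exact hjemb.injective.mem_set_image)
  have hΩr : (Ω : Set X) ⊆ Set.range j.base := hΩ ▸ Set.image_subset_range _ _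
  let k : X.presheaf.obj (op Ω) ≃+* (HensSch.specLRS A).presheaf.obj (op D) :=
    RingEquiv.ofBijective _ (bijective_secLE_of_isOpenImmersion j Ω hΩr D hjΩ)
  let e : Xh.presheaf.obj (op U) ≃+* V.presheaf.obj (op (HensSch.dOpen π f)) :=
    RingEquiv.ofBijective _ (bijective_secLE_of_isOpenImmersion v U hU _ hvU)
  let σ := secLE ι Ω U le_rfl
  let φ := HensSch.secMap π D
  let τ := secLE π D (HensSch.dOpen π f) le_rfl
  have hφ : ∀ a, φ a = τ (toSec A D a) := fun a ↦ secMap_apply π D a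
  have hσ : ∀ s, e (σ s) = τ (k s) := fun s ↦ by
    refine (secLE_comp v ι Ω U _ le_rfl hvU.ge s).trans ?_
    rw [secLE_congr hcomm]
    exact (secLE_comp π j Ω D _ hjΩ.ge le_rfl s).symm
  obtain ⟨hfu, -, huniv⟩ := hsph.2.2 f
  let K := (vanish Xh U).comap σ
  have hK : ∀ i ∈ I, k.symm (toSec A D i) ∈ K := fun i hi ↦ by
    rw [Ideal.mem_comap, vanish_iff_of_isOpenImmersion v U hU _ hvU]
    show e (σ _) ∈ vanish V _
    rw [hσ, k.apply_symm_apply, ← hφ]
    exact map_le_vanish hsph.2.1.le D (Ideal.mem_map_of_mem φ hi)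
  refine ⟨fun C _ J g hC hg ↦ ?_, fun x hx s ↦ ?_⟩
  · let gA : A →+* C := (g.comp k.symm.toRingHom).comp (toSec A D)
    have hfA : IsUnit (gA f) := (IsLocalization.Away.algebraMap_isUnit
      (S := (Spec.structureSheaf A).obj.obj (op (PrimeSpectrum.basicOpen f))) f).map (g.comp k.symm.toRingHom)
    obtain ⟨h₀, hh₀, huniq⟩ := huniv C J gA hC
      (Ideal.map_le_iff_le_comap.mpr fun i hi ↦ hg _ (Ideal.mem_comap.mp (hK i hi))) hfA
    have hτ : h₀.comp τ = g.comp k.symm.toRingHom :=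
      IsLocalization.ringHom_ext (S := (Spec.structureSheaf A).obj.obj (op (PrimeSpectrum.basicOpen f)))
        (Submonoid.powers f) (RingHom.ext fun a ↦ (congrArg h₀ (hφ a)).symm.trans (RingHom.congr_fun hh₀ a))
    refine ⟨h₀.comp e.toRingHom, RingHom.ext fun s ↦ ?_, fun h' hh' ↦ ?_⟩
    · show h₀ (e (σ s)) = g s
      rw [hσ]
      refine (RingHom.congr_fun hτ (k s)).trans ?_
      simp
    · have h1 : h'.comp e.symm.toRingHom = h₀ := huniq _ (RingHom.ext fun a ↦ by
        show h' (e.symm (φ a)) = g (k.symm (toSec A D a))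
        rw [show e.symm (φ a) = σ (k.symm (toSec A D a)) by
          rw [RingEquiv.symm_apply_eq, hσ, k.apply_symm_apply, hφ]]
        exact RingHom.congr_fun hh' _)
      rw [← h1]
      exact RingHom.ext fun q ↦ by simp
  · obtain ⟨a, n, han⟩ := exists_approx (hsph.2.2 f) (e s)
    refine ⟨k.symm (toSec A D a), k.symm (toSec A D f) ^ n, e.symm (e s * φ f ^ n - φ a), ?_, ?_, ?_⟩
    · have h1 : I.map φ ≤ (K.map σ).map e.toRingHom := Ideal.map_le_iff_le_comap.mpr fun i hi ↦ by
        rw [Ideal.mem_comap, show φ i = e.toRingHom (σ (k.symm (toSec A D i))) from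
          ((hσ _).trans (by rw [k.apply_symm_apply, hφ])).symm]
        exact Ideal.mem_map_of_mem _ (Ideal.mem_map_of_mem _ (hK i hi))
      obtain ⟨w, hw, hwe⟩ := (Ideal.mem_map_iff_of_surjective _ e.surjective).mp (h1 han)
      rw [show e.symm (e s * φ f ^ n - φ a) = w by rw [RingEquiv.symm_apply_eq]; exact hwe.symm]
      exact hw
    · have h2 : IsUnit (σ (k.symm (toSec A D f) ^ n)) := by
        have h3 : e (σ (k.symm (toSec A D f) ^ n)) = φ f ^ n := by
          rw [map_pow, map_pow, hσ, k.apply_symm_apply, hφ]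
        have h4 := (hfu.pow n).map e.symm
        rw [← h3, e.symm_apply_apply] at h4
        exact h4
      exact h2.map _
    · show s * σ _ = σ _ + _
      apply e.injective
      rw [map_mul, map_add, e.apply_symm_apply, hσ, hσ, map_pow, map_pow, k.apply_symm_apply,
        k.apply_symm_apply, ← hφ, ← hφ, add_sub_cancel]

theorem enoughGood {S : Scheme.{u}} {T : Set S} {Sh : LocallyRingedSpace.{u}}
    {ι : Sh ⟶ S.toLocallyRingedSpace} (h : HensSch.IsHenselizationAlong S T Sh ι) : EnoughGood ι := by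
  obtain ⟨-, -, hrange, hch⟩ := h
  intro x O hxO
  obtain ⟨A, _, j, hj, ⟨p, hp⟩, V, v, hv, π, hvr, hcomm, hsph⟩ :=
    hch (ι.base x) (hrange ▸ Set.mem_range_self x)
  haveI : LocallyRingedSpace.IsOpenImmersion j.toLRSHom := hj
  obtain ⟨_, ⟨f, rfl⟩, hpf, hfO⟩ := PrimeSpectrum.isTopologicalBasis_basic_opens.exists_subset_of_mem_open
    (show p ∈ j.base ⁻¹' (O.1 : Set S) from (congrArg (· ∈ (O.1 : Set S)) hp).mpr hxO)
    (O.isOpen.preimage j.continuous)
  refine ⟨⟨j.base '' _, j.isOpenEmbedding.isOpenMap _ (PrimeSpectrum.basicOpen f).isOpen⟩,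
    good_of_chart hsph ι v j.toLRSHom hcomm hvr f _ rfl, ⟨p, hpf, hp⟩, ?_⟩
  rintro _ ⟨q, hq, rfl⟩
  exact hfO hq

end HensSchLib
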