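import Groth.Agent.HensSchLib.Flat
import Groth.Agent.QCohLib.Affine

/-!
# Henselization is faithful on quasi-coherent modules
-/

set_option autoImplicit false

universe u

open CategoryTheory Limits Opposite TopologicalSpace Topology AlgebraicGeometry IsLocalRing
open scoped TensorProduct

namespace HensSchLib

theorem extendScalars_map_injective {R S : Type u} [CommRing R] [CommRing S] [IsLocalRing R] [IsLocalRing S]
    (f : R →+* S) [IsLocalHom f] (hf : f.Flat) {M N : ModuleCat.{u} R} (φ ψ : M ⟶ N)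
    (h : (ModuleCat.extendScalars.{u, u, u} f).map φ = (ModuleCat.extendScalars.{u, u, u} f).map ψ) :
    φ = ψ := by
  letI := f.toAlgebra
  haveI : Module.Flat R S := hf
  haveI : IsLocalHom (algebraMap R S) := ‹IsLocalHom f›
  haveI : Module.FaithfullyFlat R S := Module.FaithfullyFlat.of_flat_of_isLocalHom
  ext m
  refine Module.FaithfullyFlat.tensorProduct_mk_injective (A := R) (B := S) N ?_
  have := congrArg (fun q => q.hom ((1 : S) ⊗ₜ[R] m)) h
  exact this

theorem stalk_map_eq_of_pullMod_map_eq {X Y : LocallyRingedSpace.{u}} (g : X ⟶ Y) (x : X)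
    (hflat : (g.stalkMap x).hom.Flat) {F G : ModSite.Mod Y.sheaf} (φ ψ : F ⟶ G)
    (h : (HensSch.pullMod g).map φ = (HensSch.pullMod g).map ψ) :
    (FlatMorLib.stalk Y.sheaf (g.base x)).map φ = (FlatMorLib.stalk Y.sheaf (g.base x)).map ψ := by
  let α := FlatMorLib.stalkPullIso g.base X.sheaf Y.sheaf ⟨g.c⟩ x
  have h1 : (ModuleCat.extendScalars.{u, u, u} (FlatMorLib.stalkHom g.base X.sheaf Y.sheaf ⟨g.c⟩ x).hom).map
      ((FlatMorLib.stalk Y.sheaf (g.base x)).map φ) =
      (ModuleCat.extendScalars.{u, u, u} (FlatMorLib.stalkHom g.base X.sheaf Y.sheaf ⟨g.c⟩ x).hom).map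
      ((FlatMorLib.stalk Y.sheaf (g.base x)).map ψ) := by
    refine (cancel_epi (α.hom.app F)).1 ?_
    refine ((α.hom.naturality φ).symm.trans ?_).trans (α.hom.naturality ψ)
    exact congrArg (fun q => (FlatMorLib.stalk X.sheaf x).map q ≫ α.hom.app G) h
  haveI : IsLocalHom (FlatMorLib.stalkHom g.base X.sheaf Y.sheaf ⟨g.c⟩ x).hom :=
    LocallyRingedSpace.isLocalHomStalkMap g x
  haveI : IsLocalRing (Y.sheaf.presheaf.stalk (g.base x)) := Y.isLocalRing (g.base x)
  haveI : IsLocalRing (X.sheaf.presheaf.stalk x) := X.isLocalRing x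
  exact extendScalars_map_injective _ hflat _ _ h1

/-- A morphism of quasi-coherent modules is determined by its stalks at closed points. -/
theorem hom_eq_of_stalk_specialization {X : Scheme.{u}} {F G : X.Modules} [Coh.IsQCoh F] (φ ψ : F ⟶ G)
    (h : ∀ x : X, ∃ y : X, x ⤳ y ∧
      (FlatMorLib.stalk X.sheaf y).map φ = (FlatMorLib.stalk X.sheaf y).map ψ) : φ = ψ := by
  refine SheafOfModules.hom_ext (PresheafOfModules.hom_ext fun W => ?_)
  ext s
  refine (TopCat.Presheaf.section_ext
    (⟨G.presheaf, G.isSheaf⟩ : TopCat.Sheaf AddCommGrpCat.{u} X) W.unop _ _ fun x hx => ?_)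
  obtain ⟨y, hxy, hy⟩ := h x
  obtain ⟨V, hV, hyV, -⟩ := exists_isAffineOpen_mem_and_subset (x := y) (U := ⊤) trivial
  have hxV : x ∈ V := hxy.mem_open V.isOpen hyV
  obtain ⟨f, hfW, hxf⟩ := hV.exists_basicOpen_le (V := W.unop) ⟨x, hx⟩ hxV
  obtain ⟨n, t, ht⟩ := (QCohLib.localizingAt_of_isQCoh hV F f).exists_extend
    (F.presheaf.map (homOfLE hfW).op s)
  -- the two images of `t` agree near `y`, hence at `x`
  have ht' : ∀ (θ : F ⟶ G), G.presheaf.germ (X.basicOpen f) x hxf
        (G.presheaf.map (homOfLE (X.basicOpen_le f)).op (θ.app V t)) =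
      G.presheaf.germ (X.basicOpen f) x hxf
        ((X.presheaf.map (homOfLE ((X.basicOpen_le f).trans le_rfl)).op f) ^ n •
          G.presheaf.map (homOfLE hfW).op (θ.app W.unop s)) := by
    intro θ
    refine congrArg _ ?_
    have h1 : θ.app (X.basicOpen f) (F.presheaf.map (homOfLE (X.basicOpen_le f)).op t) =
        G.presheaf.map (homOfLE (X.basicOpen_le f)).op (θ.app V t) :=
      congr($(θ.mapPresheaf.naturality (homOfLE (X.basicOpen_le f)).op) t)
    have h2 : θ.app (X.basicOpen f) (F.presheaf.map (homOfLE hfW).op s) =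
        G.presheaf.map (homOfLE hfW).op (θ.app W.unop s) :=
      congr($(θ.mapPresheaf.naturality (homOfLE hfW).op) s)
    rw [← h1, ht, Scheme.Modules.Hom.app_smul, h2]
  have hgy : G.presheaf.germ V y hyV (φ.app V t) = G.presheaf.germ V y hyV (ψ.app V t) := by
    have e : ∀ θ : F ⟶ G, G.presheaf.germ V y hyV (θ.app V t) =
        ((FlatMorLib.stalk X.sheaf y).map θ).hom ((FlatMorLib.prs X.sheaf F).germ V y hyV t) :=
      fun θ => (FlatMorLib.stalk_germ X.sheaf y θ hyV t).symm
    rw [e φ, e ψ, hy]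
  obtain ⟨W', hyW', i₁, i₂, hW'⟩ := TopCat.Presheaf.germ_eq G.presheaf y hyV hyV _ _ hgy
  have hxW' : x ∈ W' := hxy.mem_open W'.isOpen hyW'
  have hgx : G.presheaf.germ V x hxV (φ.app V t) = G.presheaf.germ V x hxV (ψ.app V t) := by
    rw [← TopCat.Presheaf.germ_res_apply G.presheaf i₁ x hxW', hW',
      TopCat.Presheaf.germ_res_apply]
  have hx1 := ht' φ
  have hx2 := ht' ψ
  rw [TopCat.Presheaf.germ_res_apply] at hx1 hx2
  rw [hgx, hx2] at hx1
  have hu : IsUnit ((X.presheaf.map (homOfLE ((X.basicOpen_le f).trans le_rfl)).op f) ^ n) :=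
    (RingedSpace.isUnit_res_basicOpen X.toRingedSpace f).pow n
  let F' := G.presheaf.germ (X.basicOpen f) x hxf
  let a := X.sheaf.presheaf.germ (X.basicOpen f) x hxf
  have gs : ∀ (r : X.sheaf.presheaf.obj (op (X.basicOpen f)))
      (m : (FlatMorLib.valC X.sheaf G).obj (op (X.basicOpen f))),
      TopCat.Presheaf.germ (FlatMorLib.prs X.sheaf G) (X.basicOpen f) x hxf (r • m) =
        a r • TopCat.Presheaf.germ (FlatMorLib.prs X.sheaf G) (X.basicOpen f) x hxf m :=
    fun r m => PresheafOfModules.germ_smul (R := X.sheaf.presheaf) (FlatMorLib.valC X.sheaf G) x _ hxf r m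
  have h3 := (hu.map a.hom).smul_left_cancel.mp ((gs _ _).symm.trans (hx1.trans (gs _ _)))
  exact (TopCat.Presheaf.germ_res_apply G.presheaf (homOfLE hfW) x hxf _).symm.trans
    (h3.symm.trans (TopCat.Presheaf.germ_res_apply G.presheaf (homOfLE hfW) x hxf _))

end HensSchLib
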